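import Groth.Agent.Lib.Picard29.Free

/-!
# Monoidal natural transformations out of the free Picard category
-/

set_option autoImplicit false
set_option linter.unusedSimpArgs false

universe v u v' u'

namespace Picard29

open CategoryTheory MonoidalCategory Functor.LaxMonoidal

variable {A : Type u} [Category.{v} A] [MonoidalCategory A] [SymmetricCategory A]
variable {P : Type u'} [Category.{v'} P] [MonoidalCategory P] [SymmetricCategory P] [IsGroupoid P]
variable (hP : ∀ X : P, (tensorLeft X).IsEquivalence)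
variable {Ψ Ψ' : Ob A ⥤ P} [Ψ.LaxBraided] [Ψ'.LaxBraided] (τ : incl A ⋙ Ψ ⟶ incl A ⋙ Ψ')

/-- whiskering on the left by an object is bijective -/
noncomputable def leftPreimage {W X Y : P} (f : W ⊗ X ⟶ W ⊗ Y) : X ⟶ Y :=
  haveI := hP W
  (tensorLeft W).preimage f

lemma whiskerLeft_leftPreimage {W X Y : P} (f : W ⊗ X ⟶ W ⊗ Y) :
    W ◁ leftPreimage hP f = f :=
  haveI := hP W
  (tensorLeft W).map_preimage f

include hP in
lemma whiskerLeft_injective {W X Y : P} {f g : X ⟶ Y} (h : W ◁ f = W ◁ g) : f = g :=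
  haveI := hP W
  (tensorLeft W).map_injective h

/-- the components of the extension -/
noncomputable def theta : ∀ X : Ob A, Ψ.obj X ⟶ Ψ'.obj X
  | .of a => τ.app a
  | .unit => inv (ε Ψ) ≫ ε Ψ'
  | .tens X Y => inv (μ Ψ X Y) ≫ (theta X ⊗ₘ theta Y) ≫ μ Ψ' X Y
  | .dual X => leftPreimage hP
      (inv (theta X ▷ Ψ.obj X.dual) ≫ μ Ψ X X.dual ≫ Ψ.map (mk (Hm.ev X)) ≫
        (inv (ε Ψ) ≫ ε Ψ') ≫ inv (μ Ψ' X X.dual ≫ Ψ'.map (mk (Hm.ev X))))

lemma theta_tensor (X Y : Ob A) :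
    μ Ψ X Y ≫ theta hP τ (X ⊗ Y) = (theta hP τ X ⊗ₘ theta hP τ Y) ≫ μ Ψ' X Y := by
  show μ Ψ X Y ≫ theta hP τ (X.tens Y) = _
  simp [theta]

lemma theta_unit : ε Ψ ≫ theta hP τ (𝟙_ (Ob A)) = ε Ψ' := by
  show ε Ψ ≫ theta hP τ Ob.unit = _
  simp [theta]

lemma theta_ev (X : Ob A) :
    Ψ.map (mk (Hm.ev X)) ≫ theta hP τ (𝟙_ (Ob A)) =
      theta hP τ (X ⊗ X.dual) ≫ Ψ'.map (mk (Hm.ev X)) := by
  rw [← cancel_epi (μ Ψ X X.dual), ← Category.assoc (μ Ψ X X.dual) (theta hP τ (X ⊗ X.dual)),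
    theta_tensor, tensorHom_def]
  have h : Ψ'.obj X ◁ theta hP τ X.dual = inv (theta hP τ X ▷ Ψ.obj X.dual) ≫
      μ Ψ X X.dual ≫ Ψ.map (mk (Hm.ev X)) ≫ theta hP τ (𝟙_ (Ob A)) ≫
        inv (μ Ψ' X X.dual ≫ Ψ'.map (mk (Hm.ev X))) :=
    whiskerLeft_leftPreimage hP _
  simp [h]
  erw [IsIso.inv_hom_id, Category.comp_id]
  rfl

/-- naturality for one formal morphism -/
def Nat1 {X Y : Ob A} (f : X ⟶ Y) : Prop :=
  Ψ.map f ≫ theta hP τ Y = theta hP τ X ≫ Ψ'.map f

lemma nat_tens {X Y X' Y' : Ob A} (f : X ⟶ Y) (g : X' ⟶ Y') (hf : Nat1 hP τ f)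
    (hg : Nat1 hP τ g) : Nat1 hP τ (f ⊗ₘ g) := by
  unfold Nat1 at *
  rw [← cancel_epi (μ Ψ X X'), ← Category.assoc (μ Ψ X X') (Ψ.map _), ← μ_natural,
    Category.assoc, theta_tensor, ← Category.assoc (μ Ψ X X') (theta hP τ _), theta_tensor,
    Category.assoc, ← μ_natural, tensorHom_comp_tensorHom_assoc, tensorHom_comp_tensorHom_assoc,
    hf, hg]

lemma nat_assoc (X Y Z : Ob A) : Nat1 hP τ (α_ X Y Z).hom := by
  unfold Nat1
  rw [← cancel_epi (μ Ψ X Y ▷ Ψ.obj Z ≫ μ Ψ (X ⊗ Y) Z)]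
  have e1 := theta_tensor hP τ X Y
  have e2 := theta_tensor hP τ Y Z
  simp only [Category.assoc]
  rw [associativity_assoc, theta_tensor, reassoc_of% (theta_tensor hP τ (X ⊗ Y) Z)]
  rw [← id_tensorHom, ← tensorHom_id, tensorHom_comp_tensorHom_assoc,
    tensorHom_comp_tensorHom_assoc, e1, e2, Category.id_comp, Category.id_comp]
  rw [← Category.comp_id (theta hP τ Z), ← tensorHom_comp_tensorHom_assoc, tensorHom_id,
    associativity, Category.comp_id]
  rw [← Category.comp_id (theta hP τ X), ← tensorHom_comp_tensorHom_assoc, id_tensorHom,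
    Category.comp_id, ← associator_naturality_assoc]

lemma nat_lu (X : Ob A) : Nat1 hP τ (λ_ X).hom := by
  unfold Nat1
  rw [← cancel_epi (ε Ψ ▷ Ψ.obj X ≫ μ Ψ (𝟙_ (Ob A)) X)]
  simp only [Category.assoc]
  rw [← left_unitality_assoc, reassoc_of% (theta_tensor hP τ (𝟙_ (Ob A)) X), ← tensorHom_id,
    tensorHom_comp_tensorHom_assoc, theta_unit, Category.id_comp, tensorHom_def',
    Category.assoc, ← left_unitality, leftUnitor_naturality]

lemma nat_ru (X : Ob A) : Nat1 hP τ (ρ_ X).hom := by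
  unfold Nat1
  rw [← cancel_epi (Ψ.obj X ◁ ε Ψ ≫ μ Ψ X (𝟙_ (Ob A)))]
  simp only [Category.assoc]
  rw [← right_unitality_assoc, reassoc_of% (theta_tensor hP τ X (𝟙_ (Ob A))), ← id_tensorHom,
    tensorHom_comp_tensorHom_assoc, theta_unit, Category.id_comp, tensorHom_def,
    Category.assoc, ← right_unitality, rightUnitor_naturality]

lemma nat_braid (X Y : Ob A) : Nat1 hP τ (β_ X Y).hom := by
  unfold Nat1
  rw [← cancel_epi (μ Ψ X Y), Functor.LaxBraided.braided_assoc, theta_tensor,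
    reassoc_of% (theta_tensor hP τ X Y), Functor.LaxBraided.braided,
    BraidedCategory.braiding_naturality_assoc]

variable [NatTrans.IsMonoidal τ]

lemma nat_eps : Nat1 hP τ (mk (Hm.eps (A := A))) := by
  unfold Nat1
  have h := NatTrans.IsMonoidal.unit (τ := τ)
  simp only [Functor.LaxMonoidal.comp_ε] at h
  rw [← cancel_epi (ε Ψ)]
  erw [reassoc_of% (theta_unit hP τ)]
  simp only [Category.assoc] at h
  exact h

lemma nat_mu (a b : A) : Nat1 hP τ (mk (Hm.mu a b)) := by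
  unfold Nat1
  have h := NatTrans.IsMonoidal.tensor (τ := τ) a b
  simp only [Functor.LaxMonoidal.comp_μ] at h
  rw [← cancel_epi (μ Ψ (Ob.of a) (Ob.of b))]
  erw [reassoc_of% (theta_tensor hP τ (Ob.of a) (Ob.of b))]
  simp only [Category.assoc] at h
  exact h

lemma nat_mk {X Y : Ob A} (f : Hm X Y) : Nat1 hP τ (mk f) := by
  induction f with
  | id X => simp [Nat1, mk_id]
  | comp f g hf hg =>
      unfold Nat1 at *
      simp [mk_comp, hg, reassoc_of% hf]
  | inv f hf =>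
      unfold Nat1 at *
      rw [mk_inv, Functor.map_inv, Functor.map_inv, IsIso.inv_comp_eq, ← Category.assoc,
        IsIso.eq_comp_inv]
      exact hf.symm
  | tens f g hf hg => exact nat_tens hP τ _ _ hf hg
  | assoc X Y Z => exact nat_assoc hP τ X Y Z
  | lu X => exact nat_lu hP τ X
  | ru X => exact nat_ru hP τ X
  | braid X Y => exact nat_braid hP τ X Y
  | ev X => exact theta_ev hP τ X
  | ofMap f => exact τ.naturality f
  | eps => exact nat_eps hP τ
  | mu a b => exact nat_mu hP τ a b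

/-- the extension of a monoidal natural transformation -/
noncomputable def extend : Ψ ⟶ Ψ' where
  app := theta hP τ
  naturality _ _ f := by
    induction f using Quotient.ind with | _ f => exact nat_mk hP τ f

instance extend_isMonoidal : NatTrans.IsMonoidal (extend hP τ) where
  unit := theta_unit hP τ
  tensor := theta_tensor hP τ

lemma whiskerLeft_extend : Functor.whiskerLeft (incl A) (extend hP τ) = τ := by
  ext a; rfl

include hP in
lemma ext_of_whiskerLeft_eq {θ θ' : Ψ ⟶ Ψ'} [NatTrans.IsMonoidal θ] [NatTrans.IsMonoidal θ']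
    (h : Functor.whiskerLeft (incl A) θ = Functor.whiskerLeft (incl A) θ') : θ = θ' := by
  ext X
  induction X with
  | of a => exact NatTrans.congr_app h a
  | unit =>
      rw [← cancel_epi (ε Ψ)]
      exact (NatTrans.IsMonoidal.unit (τ := θ)).trans (NatTrans.IsMonoidal.unit (τ := θ')).symm
  | tens X Y hX hY =>
      rw [← cancel_epi (μ Ψ X Y)]
      refine (NatTrans.IsMonoidal.tensor (τ := θ) X Y).trans ?_
      rw [hX, hY]
      exact (NatTrans.IsMonoidal.tensor (τ := θ') X Y).symm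
  | dual X hX =>
      apply whiskerLeft_injective hP (W := Ψ'.obj X)
      have hu : θ.app (𝟙_ (Ob A)) = θ'.app (𝟙_ (Ob A)) := by
        rw [← cancel_epi (ε Ψ)]
        exact (NatTrans.IsMonoidal.unit (τ := θ)).trans (NatTrans.IsMonoidal.unit (τ := θ')).symm
      have n := θ.naturality (mk (Hm.ev X))
      have n' := θ'.naturality (mk (Hm.ev X))
      replace n : Ψ.map (mk (Hm.ev X)) ≫ θ'.app Ob.unit = _ :=
        (congrArg (Ψ.map (mk (Hm.ev X)) ≫ ·) hu).symm.trans n
      have hk : θ.app (X.tens X.dual) = θ'.app (X.tens X.dual) :=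
        (cancel_mono (Ψ'.map (mk (Hm.ev X)))).1 (n.symm.trans n')
      have t : (θ.app X ⊗ₘ θ.app X.dual) ≫ μ Ψ' X X.dual =
          (θ'.app X ⊗ₘ θ'.app X.dual) ≫ μ Ψ' X X.dual := by
        rw [← NatTrans.IsMonoidal.tensor (τ := θ), ← NatTrans.IsMonoidal.tensor (τ := θ')]
        exact congrArg (μ Ψ X X.dual ≫ ·) hk
      rw [cancel_mono, hX, tensorHom_def, tensorHom_def, cancel_epi] at t
      exact t

end Picard29
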