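import Mathlib.CategoryTheory.Monoidal.Braided.Basic
import Mathlib.CategoryTheory.Groupoid
import Mathlib.CategoryTheory.Monoidal.NaturalTransformation


/-!
# The free commutative Picard category on a symmetric monoidal category
-/

set_option autoImplicit false
set_option linter.unusedSimpArgs false

universe v u v' u'

namespace Picard29

open CategoryTheory MonoidalCategory Functor.LaxMonoidal

/-- formal objects -/
inductive Ob (A : Type u) : Type u
  | of : A → Ob A
  | unit : Ob A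
  | tens : Ob A → Ob A → Ob A
  | dual : Ob A → Ob A

variable {A : Type u} [Category.{v} A] [MonoidalCategory A] [SymmetricCategory A]

/-- formal morphisms -/
inductive Hm : Ob A → Ob A → Type (max u v)
  | id (X : Ob A) : Hm X X
  | comp {X Y Z : Ob A} : Hm X Y → Hm Y Z → Hm X Z
  | inv {X Y : Ob A} : Hm X Y → Hm Y X
  | tens {X Y X' Y' : Ob A} : Hm X Y → Hm X' Y' → Hm (X.tens X') (Y.tens Y')
  | assoc (X Y Z : Ob A) : Hm ((X.tens Y).tens Z) (X.tens (Y.tens Z))
  | lu (X : Ob A) : Hm (Ob.unit.tens X) X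
  | ru (X : Ob A) : Hm (X.tens Ob.unit) X
  | braid (X Y : Ob A) : Hm (X.tens Y) (Y.tens X)
  | ev (X : Ob A) : Hm (X.tens X.dual) Ob.unit
  | ofMap {a b : A} : (a ⟶ b) → Hm (Ob.of a) (Ob.of b)
  | eps : Hm Ob.unit (Ob.of (𝟙_ A))
  | mu (a b : A) : Hm ((Ob.of a).tens (Ob.of b)) (Ob.of (a ⊗ b))

open Hm in
/-- relations between formal morphisms -/
inductive Rel : ∀ {X Y : Ob A}, Hm X Y → Hm X Y → Prop
  | refl {X Y : Ob A} (f : Hm X Y) : Rel f f
  | symm {X Y : Ob A} {f g : Hm X Y} : Rel f g → Rel g f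
  | trans {X Y : Ob A} {f g h : Hm X Y} : Rel f g → Rel g h → Rel f h
  | comp_congr {X Y Z : Ob A} {f f' : Hm X Y} {g g' : Hm Y Z} :
      Rel f f' → Rel g g' → Rel (comp f g) (comp f' g')
  | inv_congr {X Y : Ob A} {f f' : Hm X Y} : Rel f f' → Rel (inv f) (inv f')
  | tens_congr {X Y X' Y' : Ob A} {f f' : Hm X Y} {g g' : Hm X' Y'} :
      Rel f f' → Rel g g' → Rel (tens f g) (tens f' g')
  | id_comp {X Y : Ob A} (f : Hm X Y) : Rel (comp (.id X) f) f
  | comp_id {X Y : Ob A} (f : Hm X Y) : Rel (comp f (.id Y)) f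
  | comp_assoc {W X Y Z : Ob A} (f : Hm W X) (g : Hm X Y) (h : Hm Y Z) :
      Rel (comp (comp f g) h) (comp f (comp g h))
  | inv_comp {X Y : Ob A} (f : Hm X Y) : Rel (comp (inv f) f) (.id Y)
  | comp_inv {X Y : Ob A} (f : Hm X Y) : Rel (comp f (inv f)) (.id X)
  | tens_id (X Y : Ob A) : Rel (tens (.id X) (.id Y)) (.id (X.tens Y))
  | tens_comp {X Y Z X' Y' Z' : Ob A} (f : Hm X Y) (g : Hm X' Y') (f' : Hm Y Z) (g' : Hm Y' Z') :
      Rel (comp (tens f g) (tens f' g')) (tens (comp f f') (comp g g'))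
  | assoc_nat {X Y Z X' Y' Z' : Ob A} (f : Hm X X') (g : Hm Y Y') (h : Hm Z Z') :
      Rel (comp (tens (tens f g) h) (assoc X' Y' Z'))
        (comp (assoc X Y Z) (tens f (tens g h)))
  | lu_nat {X Y : Ob A} (f : Hm X Y) :
      Rel (comp (tens (.id Ob.unit) f) (lu Y)) (comp (lu X) f)
  | ru_nat {X Y : Ob A} (f : Hm X Y) :
      Rel (comp (tens f (.id Ob.unit)) (ru Y)) (comp (ru X) f)
  | pentagon (W X Y Z : Ob A) :
      Rel (comp (tens (assoc W X Y) (.id Z)) (comp (assoc W (X.tens Y) Z)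
          (tens (.id W) (assoc X Y Z))))
        (comp (assoc (W.tens X) Y Z) (assoc W X (Y.tens Z)))
  | triangle (X Y : Ob A) :
      Rel (comp (assoc X Ob.unit Y) (tens (.id X) (lu Y))) (tens (ru X) (.id Y))
  | braid_nat {X Y X' Y' : Ob A} (f : Hm X Y) (g : Hm X' Y') :
      Rel (comp (tens f g) (braid Y Y')) (comp (braid X X') (tens g f))
  | hex_fwd (X Y Z : Ob A) :
      Rel (comp (assoc X Y Z) (comp (braid X (Y.tens Z)) (assoc Y Z X)))
        (comp (tens (braid X Y) (.id Z)) (comp (assoc Y X Z) (tens (.id Y) (braid X Z))))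
  | hex_rev (X Y Z : Ob A) :
      Rel (comp (inv (assoc X Y Z)) (comp (braid (X.tens Y) Z) (inv (assoc Z X Y))))
        (comp (tens (.id X) (braid Y Z)) (comp (inv (assoc X Z Y)) (tens (braid X Z) (.id Y))))
  | symmetry (X Y : Ob A) : Rel (comp (braid X Y) (braid Y X)) (.id (X.tens Y))
  | of_id (a : A) : Rel (ofMap (𝟙 a)) (.id (Ob.of a))
  | of_comp {a b c : A} (f : a ⟶ b) (g : b ⟶ c) :
      Rel (ofMap (f ≫ g)) (comp (ofMap f) (ofMap g))
  | mu_left {a b : A} (f : a ⟶ b) (c : A) :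
      Rel (comp (tens (ofMap f) (.id (Ob.of c))) (mu b c)) (comp (mu a c) (ofMap (f ▷ c)))
  | mu_right {a b : A} (c : A) (f : a ⟶ b) :
      Rel (comp (tens (.id (Ob.of c)) (ofMap f)) (mu c b)) (comp (mu c a) (ofMap (c ◁ f)))
  | mu_assoc (a b c : A) :
      Rel (comp (tens (mu a b) (.id (Ob.of c))) (comp (mu (a ⊗ b) c) (ofMap (α_ a b c).hom)))
        (comp (assoc (Ob.of a) (Ob.of b) (Ob.of c))
          (comp (tens (.id (Ob.of a)) (mu b c)) (mu a (b ⊗ c))))
  | mu_lu (a : A) :
      Rel (lu (Ob.of a))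
        (comp (tens eps (.id (Ob.of a))) (comp (mu (𝟙_ A) a) (ofMap (λ_ a).hom)))
  | mu_ru (a : A) :
      Rel (ru (Ob.of a))
        (comp (tens (.id (Ob.of a)) eps) (comp (mu a (𝟙_ A)) (ofMap (ρ_ a).hom)))
  | mu_braid (a b : A) :
      Rel (comp (mu a b) (ofMap (β_ a b).hom)) (comp (braid (Ob.of a) (Ob.of b)) (mu b a))

instance homSetoid (X Y : Ob A) : Setoid (Hm X Y) :=
  ⟨Rel, ⟨Rel.refl, Rel.symm, Rel.trans⟩⟩

instance : Category.{max u v} (Ob A) where
  Hom X Y := Quotient (homSetoid X Y)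
  id X := ⟦Hm.id X⟧
  comp := Quotient.map₂ Hm.comp fun _ _ h _ _ h' => Rel.comp_congr h h'
  id_comp f := by induction f using Quotient.ind with | _ f => exact Quotient.sound (Rel.id_comp f)
  comp_id f := by induction f using Quotient.ind with | _ f => exact Quotient.sound (Rel.comp_id f)
  assoc f g h := by
    induction f using Quotient.ind with | _ f => ?_
    induction g using Quotient.ind with | _ g => ?_
    induction h using Quotient.ind with | _ h => ?_
    exact Quotient.sound (Rel.comp_assoc f g h)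

/-- class of a formal morphism -/
abbrev mk {X Y : Ob A} (f : Hm X Y) : X ⟶ Y := Quotient.mk _ f

lemma mk_comp {X Y Z : Ob A} (f : Hm X Y) (g : Hm Y Z) : mk (Hm.comp f g) = mk f ≫ mk g := rfl

lemma mk_id (X : Ob A) : mk (Hm.id X) = 𝟙 X := rfl

/-- inverse of a morphism -/
def invHom {X Y : Ob A} : (X ⟶ Y) → (Y ⟶ X) :=
  Quotient.map Hm.inv fun _ _ h => Rel.inv_congr h

/-- every formal morphism is an isomorphism -/
@[simps]
def isoMk {X Y : Ob A} (f : Hm X Y) : X ≅ Y where
  hom := mk f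
  inv := mk (Hm.inv f)
  hom_inv_id := Quotient.sound (Rel.comp_inv f)
  inv_hom_id := Quotient.sound (Rel.inv_comp f)

instance : IsGroupoid (Ob A) where
  all_isIso f := by
    induction f using Quotient.ind with | _ f => exact (isoMk f).isIso_hom

lemma mk_inv {X Y : Ob A} (f : Hm X Y) : mk (Hm.inv f) = inv (mk f) :=
  (IsIso.eq_inv_of_hom_inv_id (Quotient.sound (Rel.comp_inv f))).trans rfl

instance : MonoidalCategoryStruct (Ob A) where
  tensorObj := Ob.tens
  tensorHom f g := Quotient.map₂ Hm.tens (fun _ _ h _ _ h' => Rel.tens_congr h h') f g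
  whiskerLeft X _ _ f :=
    Quotient.map (Hm.tens (Hm.id X)) (fun _ _ h => Rel.tens_congr (Rel.refl _) h) f
  whiskerRight f Y :=
    Quotient.map (fun g => Hm.tens g (Hm.id Y)) (fun _ _ h => Rel.tens_congr h (Rel.refl _)) f
  tensorUnit := Ob.unit
  associator X Y Z := isoMk (Hm.assoc X Y Z)
  leftUnitor X := isoMk (Hm.lu X)
  rightUnitor X := isoMk (Hm.ru X)

instance : MonoidalCategory (Ob A) := MonoidalCategory.ofTensorHom
  (id_tensorHom_id := fun X Y => Quotient.sound (Rel.tens_id X Y))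
  (id_tensorHom := fun X _ _ f => by induction f using Quotient.ind with | _ f => rfl)
  (tensorHom_id := fun f Y => by induction f using Quotient.ind with | _ f => rfl)
  (tensorHom_comp_tensorHom := fun f g f' g' => by
    induction f using Quotient.ind with | _ f => ?_
    induction g using Quotient.ind with | _ g => ?_
    induction f' using Quotient.ind with | _ f' => ?_
    induction g' using Quotient.ind with | _ g' => ?_
    exact Quotient.sound (Rel.tens_comp f g f' g'))
  (associator_naturality := fun f g h => by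
    induction f using Quotient.ind with | _ f => ?_
    induction g using Quotient.ind with | _ g => ?_
    induction h using Quotient.ind with | _ h => ?_
    exact Quotient.sound (Rel.assoc_nat f g h))
  (leftUnitor_naturality := fun f => by
    induction f using Quotient.ind with | _ f => exact Quotient.sound (Rel.lu_nat f))
  (rightUnitor_naturality := fun f => by
    induction f using Quotient.ind with | _ f => exact Quotient.sound (Rel.ru_nat f))
  (pentagon := fun W X Y Z => Quotient.sound (Rel.pentagon W X Y Z))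
  (triangle := fun X Y => Quotient.sound (Rel.triangle X Y))

instance : BraidedCategory (Ob A) where
  braiding X Y := isoMk (Hm.braid X Y)
  braiding_naturality_right X _ _ f := by
    induction f using Quotient.ind with | _ f => exact Quotient.sound (Rel.braid_nat (Hm.id X) f)
  braiding_naturality_left f Z := by
    induction f using Quotient.ind with | _ f => exact Quotient.sound (Rel.braid_nat f (Hm.id Z))
  hexagon_forward X Y Z := Quotient.sound (Rel.hex_fwd X Y Z)
  hexagon_reverse X Y Z := Quotient.sound (Rel.hex_rev X Y Z)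

instance : SymmetricCategory (Ob A) where
  symmetry X Y := Quotient.sound (Rel.symmetry X Y)

variable (A) in
/-- the inclusion -/
def incl : A ⥤ Ob A where
  obj := Ob.of
  map f := mk (Hm.ofMap f)
  map_id a := Quotient.sound (Rel.of_id a)
  map_comp f g := Quotient.sound (Rel.of_comp f g)

instance : (incl A).LaxBraided where
  ε := mk Hm.eps
  μ a b := mk (Hm.mu a b)
  μ_natural_left f c := Quotient.sound (Rel.mu_left f c)
  μ_natural_right c f := Quotient.sound (Rel.mu_right c f)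
  associativity a b c := Quotient.sound (Rel.mu_assoc a b c)
  left_unitality a := Quotient.sound (Rel.mu_lu a)
  right_unitality a := Quotient.sound (Rel.mu_ru a)
  braided a b := Quotient.sound (Rel.mu_braid a b)

instance (X : Ob A) : (tensorRight X).IsEquivalence := by
  let e₁ : X ⊗ X.dual ≅ 𝟙_ (Ob A) := isoMk (Hm.ev X)
  let e₂ : X.dual ⊗ X ≅ 𝟙_ (Ob A) := β_ _ _ ≪≫ e₁
  exact (CategoryTheory.Equivalence.mk (tensorRight X) (tensorRight X.dual)
    ((rightUnitorNatIso (Ob A)).symm ≪≫ (tensoringRight (Ob A)).mapIso e₁.symm ≪≫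
      tensorRightTensor X X.dual)
    ((tensorRightTensor X.dual X).symm ≪≫ (tensoringRight (Ob A)).mapIso e₂ ≪≫
      rightUnitorNatIso (Ob A))).isEquivalence_functor

instance (X : Ob A) : (tensorLeft X).IsEquivalence :=
  Functor.isEquivalence_of_iso (BraidedCategory.tensorLeftIsoTensorRight X).symm

section Lift

variable {P : Type u'} [Category.{v'} P] [MonoidalCategory P] [SymmetricCategory P] [IsGroupoid P]
variable (Φ : A ⥤ P) [Φ.LaxBraided] (d : P → P) (e : ∀ p : P, p ⊗ d p ⟶ 𝟙_ P)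

/-- evaluation of formal objects -/
def evObj : Ob A → P
  | .of a => Φ.obj a
  | .unit => 𝟙_ P
  | .tens X Y => evObj X ⊗ evObj Y
  | .dual X => d (evObj X)

/-- evaluation of formal morphisms -/
noncomputable def evHm : ∀ {X Y : Ob A}, Hm X Y → (evObj Φ d X ⟶ evObj Φ d Y)
  | _, _, .id _ => 𝟙 _
  | _, _, .comp f g => evHm f ≫ evHm g
  | _, _, .inv f => inv (evHm f)
  | _, _, .tens f g => evHm f ⊗ₘ evHm g
  | _, _, .assoc X Y Z => (α_ (evObj Φ d X) (evObj Φ d Y) (evObj Φ d Z)).hom
  | _, _, .lu X => (λ_ (evObj Φ d X)).hom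
  | _, _, .ru X => (ρ_ (evObj Φ d X)).hom
  | _, _, .braid X Y => (β_ (evObj Φ d X) (evObj Φ d Y)).hom
  | _, _, .ev X => e (evObj Φ d X)
  | _, _, .ofMap f => Φ.map f
  | _, _, .eps => ε Φ
  | _, _, .mu a b => μ Φ a b

lemma evHm_sound {X Y : Ob A} {f g : Hm X Y} (h : Rel f g) : evHm Φ d e f = evHm Φ d e g := by
  induction h with
  | refl => rfl
  | symm _ ih => exact ih.symm
  | trans _ _ ih ih' => exact ih.trans ih'
  | comp_congr _ _ ih ih' => simp [evHm, ih, ih']
  | inv_congr _ ih => simp [evHm, ih]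
  | tens_congr _ _ ih ih' => simp [evHm, ih, ih']
  | id_comp => simp [evHm, evObj]
  | comp_id => simp [evHm, evObj]
  | comp_assoc => simp [evHm, evObj]
  | inv_comp => simp [evHm, evObj]
  | comp_inv => simp [evHm, evObj]
  | tens_id => simp [evHm, evObj]
  | tens_comp => simp [evHm, evObj]
  | assoc_nat => simp [evHm, evObj]
  | lu_nat => simp [evHm, evObj]
  | ru_nat => simp [evHm, evObj]
  | pentagon W X Y Z =>
      simpa [evHm, evObj] using
        MonoidalCategory.pentagon (evObj Φ d W) (evObj Φ d X) (evObj Φ d Y) (evObj Φ d Z)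
  | triangle X Y => simp [evHm, evObj]
  | braid_nat f g => simp [evHm, evObj]
  | hex_fwd X Y Z =>
      simpa [evHm, evObj] using
        BraidedCategory.hexagon_forward (evObj Φ d X) (evObj Φ d Y) (evObj Φ d Z)
  | hex_rev X Y Z =>
      simpa [evHm, evObj] using
        BraidedCategory.hexagon_reverse (evObj Φ d X) (evObj Φ d Y) (evObj Φ d Z)
  | symmetry => simp [evHm, evObj]
  | of_id => simp [evHm, evObj]
  | of_comp => simp [evHm, evObj]
  | mu_left f c => simp [evHm, evObj, μ_natural_left]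
  | mu_right c f => simp [evHm, evObj, μ_natural_right]
  | mu_assoc a b c => simp [evHm, evObj, associativity]
  | mu_lu a => simp [evHm, evObj, left_unitality]
  | mu_ru a => simp [evHm, evObj, right_unitality]
  | mu_braid a b => simp [evHm, evObj, Functor.LaxBraided.braided]

/-- the extension to the free Picard category -/
noncomputable def lift : Ob A ⥤ P where
  obj := evObj Φ d
  map := Quotient.lift (evHm Φ d e) fun _ _ h => evHm_sound Φ d e h
  map_id _ := rfl
  map_comp f g := by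
    induction f using Quotient.ind with | _ f => ?_
    induction g using Quotient.ind with | _ g => ?_
    rfl

lemma lift_map_mk {X Y : Ob A} (f : Hm X Y) : (lift Φ d e).map (mk f) = evHm Φ d e f := rfl

noncomputable instance : (lift Φ d e).LaxBraided where
  ε := 𝟙 _
  μ _ _ := 𝟙 _
  μ_natural_left f Z := by
    induction f using Quotient.ind with | _ f => ?_
    show evHm Φ d e f ▷ evObj Φ d Z ≫ 𝟙 _ = 𝟙 _ ≫ evHm Φ d e (Hm.tens f (Hm.id Z))
    simp [evHm, evObj]
  μ_natural_right Z f := by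
    induction f using Quotient.ind with | _ f => ?_
    show evObj Φ d Z ◁ evHm Φ d e f ≫ 𝟙 _ = 𝟙 _ ≫ evHm Φ d e (Hm.tens (Hm.id Z) f)
    simp [evHm, evObj]
  associativity X Y Z := by
    show 𝟙 (evObj Φ d X ⊗ evObj Φ d Y) ▷ evObj Φ d Z ≫ 𝟙 _ ≫ evHm Φ d e (Hm.assoc X Y Z) =
      (α_ _ _ _).hom ≫ evObj Φ d X ◁ 𝟙 _ ≫ 𝟙 _
    simp [evHm, evObj]
  left_unitality X := by
    show (λ_ (evObj Φ d X)).hom = 𝟙 (𝟙_ P) ▷ evObj Φ d X ≫ 𝟙 _ ≫ evHm Φ d e (Hm.lu X)
    simp [evHm, evObj]
  right_unitality X := by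
    show (ρ_ (evObj Φ d X)).hom = evObj Φ d X ◁ 𝟙 (𝟙_ P) ≫ 𝟙 _ ≫ evHm Φ d e (Hm.ru X)
    simp [evHm, evObj]
  braided X Y := by
    show 𝟙 _ ≫ evHm Φ d e (Hm.braid X Y) = (β_ _ _).hom ≫ 𝟙 _
    simp [evHm, evObj]

/-- the extension restricts to the given functor -/
noncomputable def liftIso : incl A ⋙ lift Φ d e ≅ Φ :=
  NatIso.ofComponents (fun _ => Iso.refl _) (fun {a b} f => by
    show evHm Φ d e (Hm.ofMap f) ≫ 𝟙 _ = 𝟙 _ ≫ Φ.map f
    simp [evHm])

lemma liftIso_isMonoidal : NatTrans.IsMonoidal (liftIso Φ d e).hom where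
  unit := by
    show (𝟙 (𝟙_ P) ≫ evHm Φ d e Hm.eps) ≫ 𝟙 _ = ε Φ
    simp [evHm]
  tensor a b := by
    show (𝟙 (evObj Φ d (Ob.of a) ⊗ evObj Φ d (Ob.of b)) ≫ evHm Φ d e (Hm.mu a b)) ≫ 𝟙 _ =
      (𝟙 (Φ.obj a) ⊗ₘ 𝟙 (Φ.obj b)) ≫ μ Φ a b
    simp [evHm, evObj]

end Lift

end Picard29
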